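import Mathlib.CategoryTheory.Sites.Canonical
import Mathlib.CategoryTheory.Sites.Closed
import Mathlib.CategoryTheory.Sites.RegularEpi
import Mathlib.CategoryTheory.Sites.Limits
import Mathlib.CategoryTheory.Sites.LocallyBijective
import Mathlib.CategoryTheory.Limits.Preserves.Shapes.Equalizers
import Mathlib.CategoryTheory.Limits.Types.Equalizers
import Mathlib.CategoryTheory.Limits.Types.Pullbacks
import Mathlib.CategoryTheory.Limits.Yoneda

/-!
The canonical topology of a topos of sheaves of sets on a small site: covering sieves are those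
containing a small locally surjective family; sheaves of sets for it are the functors turning small
colimits into limits.
-/

universe w u

set_option linter.style.haveILetI false

open CategoryTheory CategoryTheory.Limits Opposite

namespace Groth.Agent.CanonTopos16

variable {C : Type u} [SmallCategory C] {J : GrothendieckTopology C}

/-- The sheaf represented by `c`. -/
noncomputable abbrev rep (J : GrothendieckTopology C) (c : C) : Sheaf J (Type u) :=
  (presheafToSheaf J (Type u)).obj (yoneda.obj c)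

/-- Maps out of a represented sheaf are elements. -/
noncomputable def el {c : C} {F : Sheaf J (Type u)} : (rep J c ⟶ F) ≃ F.obj.obj (op c) :=
  ((sheafificationAdjunction J (Type u)).homEquiv _ _).trans CategoryTheory.yonedaEquiv

lemma el_comp {c : C} {F G : Sheaf J (Type u)} (g : rep J c ⟶ F) (m : F ⟶ G) :
    el (g ≫ m) = m.hom.app (op c) (el g) := by
  simp only [el, Equiv.trans_apply, Adjunction.homEquiv_naturality_right]
  exact CategoryTheory.yonedaEquiv_comp _ _

lemma el_symm_comp {c : C} {F G : Sheaf J (Type u)} (x : F.obj.obj (op c)) (m : F ⟶ G) :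
    el.symm x ≫ m = el.symm (m.hom.app (op c) x) := by
  apply el.injective
  rw [el_comp, Equiv.apply_symm_apply, Equiv.apply_symm_apply]

lemma el_pre {c d : C} (h : d ⟶ c) {F : Sheaf J (Type u)} (g : rep J c ⟶ F) :
    el ((presheafToSheaf J (Type u)).map (yoneda.map h) ≫ g) = F.obj.map h.op (el g) := by
  simp only [el, Equiv.trans_apply, Adjunction.homEquiv_naturality_left]
  exact (CategoryTheory.yonedaEquiv_naturality _ h).symm

lemma el_symm_pre {c d : C} (h : d ⟶ c) {F : Sheaf J (Type u)} (x : F.obj.obj (op c)) :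
    (presheafToSheaf J (Type u)).map (yoneda.map h) ≫ el.symm x = el.symm (F.obj.map h.op x) := by
  apply el.injective
  rw [el_pre, Equiv.apply_symm_apply, Equiv.apply_symm_apply]

/-- The sieve of arrows along which `x` comes from the family. -/
def famSieve {ι : Type*} {X : Sheaf J (Type u)} {G : ι → Sheaf J (Type u)} (f : ∀ i, G i ⟶ X)
    {c : C} (x : X.obj.obj (op c)) : Sieve c where
  arrows d g := ∃ (i : ι) (y : (G i).obj.obj (op d)), (f i).hom.app (op d) y = X.obj.map g.op x
  downward_closed := by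
    rintro d e g ⟨i, y, hy⟩ h
    refine ⟨i, (G i).obj.map h.op y, ?_⟩
    rw [NatTrans.naturality_apply, hy, op_comp, Functor.map_comp_apply]

/-- Locally surjective families. -/
def LocSurj {ι : Type*} {X : Sheaf J (Type u)} {G : ι → Sheaf J (Type u)} (f : ∀ i, G i ⟶ X) : Prop :=
  ∀ (c : C) (x : X.obj.obj (op c)), famSieve f x ∈ J c

lemma famSieve_pullback {ι : Type*} {X : Sheaf J (Type u)} {G : ι → Sheaf J (Type u)}
    (f : ∀ i, G i ⟶ X) {c d : C} (g : d ⟶ c) (x : X.obj.obj (op c)) :
    famSieve f (X.obj.map g.op x) = (famSieve f x).pullback g := by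
  ext e h
  simp [famSieve]

/-- The sheaf of closed sieves. -/
def omega (J : GrothendieckTopology C) : Sheaf J (Type u) :=
  ⟨(Functor.closedSieves J).toFunctor, (isSheaf_iff_isSheaf_of_type _ _).2 (classifier_isSheaf J)⟩

lemma locSurj_of_jointlyEpi {ι : Type*} {X : Sheaf J (Type u)} {G : ι → Sheaf J (Type u)}
    (f : ∀ i, G i ⟶ X)
    (h : ∀ (Z : Sheaf J (Type u)) (a b : X ⟶ Z), (∀ i, f i ≫ a = f i ≫ b) → a = b) : LocSurj f := by
  let a : X ⟶ omega J :=
    ⟨{ app := fun c => ↾ fun _ => ⟨(⊤ : Sieve c.unop), fun _ g _ => trivial⟩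
       naturality := fun c d g => by
         refine ConcreteCategory.hom_ext _ _ fun x => Subtype.ext ?_
         exact (Sieve.pullback_top).symm }⟩
  let b : X ⟶ omega J :=
    ⟨{ app := fun c => ↾ fun x => ⟨J.close (famSieve f (c := c.unop) x), J.close_isClosed _⟩
       naturality := fun c d g => by
         refine ConcreteCategory.hom_ext _ _ fun x => Subtype.ext ?_
         change J.close (famSieve f (X.obj.map g.unop.op x)) = _
         rw [famSieve_pullback, J.pullback_close]
         rfl }⟩
  have hab : a = b := by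
    refine h _ a b fun i => ObjectProperty.hom_ext _ (NatTrans.ext (funext fun c => ?_))
    refine ConcreteCategory.hom_ext _ _ fun y => Subtype.ext ?_
    change (⊤ : Sieve c.unop) = J.close (famSieve f ((f i).hom.app c y))
    have : famSieve f (c := c.unop) ((f i).hom.app c y) = ⊤ := by
      ext d g
      simp only [Sieve.top_apply, iff_true]
      exact ⟨i, (G i).obj.map g.op y, NatTrans.naturality_apply (f i).hom g.op y⟩
    rw [this, (J.close_eq_top_iff_mem _).2 (J.top_mem _)]
  intro c x
  rw [← J.close_eq_top_iff_mem]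
  exact (congrArg Subtype.val
    (ConcreteCategory.congr_hom (congrArg (fun t : X ⟶ omega J => t.hom.app (op c)) hab) x)).symm

lemma eq_of_cover (Z : Sheaf J (Type u)) {c : C} {S : Sieve c} (hS : S ∈ J c)
    {s t : Z.obj.obj (op c)} (h : ∀ ⦃d⦄ (f : d ⟶ c), S f → Z.obj.map f.op s = Z.obj.map f.op t) :
    s = t :=
  ((isSheaf_iff_isSheaf_of_type J Z.obj).1 Z.property S hS).isSeparatedFor.ext h

lemma jointlyEpi_of_locSurj {ι : Type*} {X : Sheaf J (Type u)} {G : ι → Sheaf J (Type u)}
    (f : ∀ i, G i ⟶ X) (h : LocSurj f) (Z : Sheaf J (Type u)) (a b : X ⟶ Z)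
    (hab : ∀ i, f i ≫ a = f i ≫ b) : a = b := by
  refine ObjectProperty.hom_ext _ (NatTrans.ext (funext fun ⟨c⟩ => ?_))
  refine ConcreteCategory.hom_ext _ _ fun x => eq_of_cover Z (h c x) ?_
  rintro d g ⟨i, y, hy⟩
  rw [← NatTrans.naturality_apply, ← NatTrans.naturality_apply, ← hy]
  exact ConcreteCategory.congr_hom (congrArg (fun t : G i ⟶ Z => t.hom.app (op d)) (hab i)) y

variable (P : (Sheaf J (Type u))ᵒᵖ ⥤ Type w) [PreservesLimitsOfSize.{u, u} P]

lemma exists_of_coproduct {ι : Type u} (G : ι → Sheaf J (Type u)) :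
    Function.Bijective (fun (t : P.obj (op (∐ G))) (i : ι) => P.map (Sigma.ι G i).op t) := by
  have hl := (Types.isLimit_iff _).1 ⟨isLimitOfPreserves P (coproductIsCoproduct G).op⟩
  refine Function.bijective_iff_existsUnique _ |>.2 fun x => ?_
  obtain ⟨t, ht, hu⟩ := hl (fun j => x j.unop.as) (fun {j j'} f => by
    obtain ⟨⟨j⟩⟩ := j
    obtain ⟨⟨j'⟩⟩ := j'
    obtain rfl : j' = j := Discrete.eq_of_hom f.unop
    obtain rfl : f = 𝟙 _ := Quiver.Hom.unop_inj (Subsingleton.elim _ _)
    simp)
  exact ⟨t, funext fun i => ht (op ⟨i⟩), fun t' ht' => hu t' fun j => congrFun ht' j.unop.as⟩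

lemma epi_desc {ι : Type u} {X : Sheaf J (Type u)} {G : ι → Sheaf J (Type u)} (f : ∀ i, G i ⟶ X)
    (h : LocSurj f) : Epi (Sigma.desc f) :=
  ⟨fun {Z} a b hab => jointlyEpi_of_locSurj f h Z a b fun i => by
    have := congrArg (Sigma.ι G i ≫ ·) hab
    simpa using this⟩

lemma separated {ι : Type u} {X : Sheaf J (Type u)} {G : ι → Sheaf J (Type u)} (f : ∀ i, G i ⟶ X)
    (h : LocSurj f) {s t : P.obj (op X)} (e : ∀ i, P.map (f i).op s = P.map (f i).op t) : s = t := by
  haveI := epi_desc f h
  haveI : PreservesFiniteLimits P := PreservesLimitsOfSize.preservesFiniteLimits.{u, u} P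
  have hinj : Function.Injective (P.map (Sigma.desc f).op) := (mono_iff_injective _).1 inferInstance
  refine hinj ((exists_of_coproduct P G).1 (funext fun i => ?_))
  dsimp only
  rw [← Functor.map_comp_apply, ← Functor.map_comp_apply, ← op_comp, Sigma.ι_desc]
  exact e i

lemma glue {ι : Type u} {X : Sheaf J (Type u)} {G : ι → Sheaf J (Type u)} (f : ∀ i, G i ⟶ X)
    (h : LocSurj f) (x : ∀ i, P.obj (op (G i)))
    (hx : ∀ (W : Sheaf J (Type u)) (i j : ι) (a : W ⟶ G i) (b : W ⟶ G j), a ≫ f i = b ≫ f j →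
      P.map a.op (x i) = P.map b.op (x j)) :
    ∃ t : P.obj (op X), ∀ i, P.map (f i).op t = x i := by
  haveI := epi_desc f h
  obtain ⟨φ, hφ'⟩ := (exists_of_coproduct P G).2 x
  have hφ : ∀ i, P.map (Sigma.ι G i).op φ = x i := fun i => congrFun hφ' i
  let π := Sigma.desc f
  let K := pullback π π
  let inj := fun i : ι => Sigma.ι G i
  have hinj : LocSurj inj := locSurj_of_jointlyEpi _ fun Z a b hab => Sigma.hom_ext _ _ hab
  let κ := Σ d : C, {z : K.obj.obj (op d) //
    (∃ i y, (inj i).hom.app (op d) y = (pullback.fst π π).hom.app (op d) z) ∧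
    (∃ i y, (inj i).hom.app (op d) y = (pullback.snd π π).hom.app (op d) z)}
  let e : ∀ k : κ, rep J k.1 ⟶ K := fun k => el.symm k.2.1
  have he : LocSurj e := by
    intro c z
    refine J.superset_covering ?_ (J.intersection_covering
      (hinj c ((pullback.fst π π).hom.app (op c) z)) (hinj c ((pullback.snd π π).hom.app (op c) z)))
    rintro d g ⟨⟨i, y, hy⟩, ⟨j, y', hy'⟩⟩
    refine ⟨⟨d, K.obj.map g.op z, ⟨i, y, hy.trans (NatTrans.naturality_apply (pullback.fst π π).hom g.op z).symm⟩,
      ⟨j, y', hy'.trans (NatTrans.naturality_apply (pullback.snd π π).hom g.op z).symm⟩⟩, el (𝟙 (rep J d)), ?_⟩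
    refine (el_comp (𝟙 (rep J d)) (el.symm (K.obj.map g.op z))).symm.trans ?_
    rw [Category.id_comp, Equiv.apply_symm_apply]
  have hk : P.map (pullback.fst π π).op φ = P.map (pullback.snd π π).op φ := by
    refine separated P e he ?_
    rintro ⟨d, z, ⟨i, y, hy⟩, ⟨j, y', hy'⟩⟩
    have e₁ : el.symm z ≫ pullback.fst π π = el.symm y ≫ inj i := by
      rw [el_symm_comp, el_symm_comp, hy]
    have e₂ : el.symm z ≫ pullback.snd π π = el.symm y' ≫ inj j := by
      rw [el_symm_comp, el_symm_comp, hy']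
    rw [← Functor.map_comp_apply, ← Functor.map_comp_apply, ← op_comp, ← op_comp]
    change P.map (el.symm z ≫ pullback.fst π π).op φ = P.map (el.symm z ≫ pullback.snd π π).op φ
    rw [e₁, e₂, op_comp, op_comp, Functor.map_comp_apply, Functor.map_comp_apply,
      hφ i, hφ j]
    refine hx _ i j _ _ ?_
    have hc := congrArg (el.symm z ≫ ·) (pullback.condition (f := π) (g := π))
    simp only [← Category.assoc, e₁, e₂] at hc
    simpa [inj, π] using hc
  haveI : IsRegularEpi π := IsRegularEpiCategory.regularEpiOfEpi π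
  have hcq := isColimitCoforkOfEffectiveEpi π _ (pullbackIsPullback π π)
  let fk : Fork (pullback.fst π π).op (pullback.snd π π).op :=
    Fork.ofι π.op (by rw [← op_comp, ← op_comp, pullback.condition])
  have hfk : IsLimit fk := Fork.IsLimit.mk fk
    (fun s => (hcq.desc (Cofork.ofπ s.ι.unop (Quiver.Hom.op_inj (by exact s.condition)))).op)
    (fun s => Quiver.Hom.unop_inj (Cofork.IsColimit.π_desc hcq))
    (fun s m hm => Quiver.Hom.unop_inj (Cofork.IsColimit.hom_ext hcq (by
      refine Eq.trans (congrArg Quiver.Hom.unop hm) ?_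
      symm
      exact Cofork.IsColimit.π_desc hcq)))
  haveI : PreservesFiniteLimits P := PreservesLimitsOfSize.preservesFiniteLimits.{u, u} P
  have hl := (Types.isLimit_iff _).1 ⟨isLimitForkMapOfIsLimit P fk.condition
    (hfk.ofIsoLimit (Fork.ext (Iso.refl _)))⟩
  obtain ⟨t, ht, -⟩ := hl
    (fun j => match j with
      | WalkingParallelPair.zero => φ
      | WalkingParallelPair.one => P.map (pullback.fst π π).op φ)
    (fun {j j'} g => by
      cases g
      · rfl
      · exact hk.symm
      · exact CategoryTheory.Functor.map_id_apply _ j _)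
  refine ⟨t, fun i => ?_⟩
  rw [← hφ i]
  have h0 : P.map π.op t = φ := ht WalkingParallelPair.zero
  rw [← h0, ← Functor.map_comp_apply, ← op_comp, Sigma.ι_desc]

theorem isSheafFor_of_contains {ι : Type u} {X : Sheaf J (Type u)} {G : ι → Sheaf J (Type u)}
    (f : ∀ i, G i ⟶ X) (h : LocSurj f) (S : Sieve X) (hS : ∀ i, S (f i)) :
    Presieve.IsSheafFor P S.arrows := by
  intro x hx
  obtain ⟨t, ht⟩ := glue P f h (fun i => x (f i) (hS i))
    (fun W i j a b e => hx a b (hS i) (hS j) e)
  refine ⟨t, fun W g hg => ?_, fun t' ht' => separated P f h fun i => (ht' _ (hS i)).trans (ht i).symm⟩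
  let κ := Σ d : C, {z : W.obj.obj (op d) //
    ∃ i y, (f i).hom.app (op d) y = g.hom.app (op d) z}
  let e : ∀ k : κ, rep J k.1 ⟶ W := fun k => el.symm k.2.1
  have he : LocSurj e := by
    intro c z
    refine J.superset_covering ?_ (h c (g.hom.app (op c) z))
    rintro d k ⟨i, y, hy⟩
    refine ⟨⟨d, W.obj.map k.op z, i, y, hy.trans (NatTrans.naturality_apply g.hom k.op z).symm⟩,
      el (𝟙 (rep J d)), ?_⟩
    refine (el_comp (𝟙 (rep J d)) (el.symm (W.obj.map k.op z))).symm.trans ?_
    rw [Category.id_comp, Equiv.apply_symm_apply]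
  refine separated P e he ?_
  rintro ⟨d, z, i, y, hy⟩
  have e₁ : el.symm z ≫ g = el.symm y ≫ f i := by rw [el_symm_comp, el_symm_comp, hy]
  rw [← Functor.map_comp_apply, ← op_comp]
  change P.map (el.symm z ≫ g).op t = P.map (el.symm z).op (x g hg)
  rw [e₁, op_comp, Functor.map_comp_apply, ht i]
  exact (hx (el.symm z) (el.symm y) hg (hS i) e₁).symm

omit [PreservesLimitsOfSize.{u, u} P] in
theorem mem_canonical_of_locSurj {ι : Type u} {X : Sheaf J (Type u)} {G : ι → Sheaf J (Type u)}
    (f : ∀ i, G i ⟶ X) (h : LocSurj f) (S : Sieve X) (hS : ∀ i, S (f i)) :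
    S ∈ Sheaf.canonicalTopology (Sheaf J (Type u)) X := by
  refine Sheaf.mem_finestTopology_of_forall_isSheafFor ?_
  rintro _ ⟨Z, rfl⟩ Y g
  let κ := Σ d : C, {z : Y.obj.obj (op d) //
    ∃ i y, (f i).hom.app (op d) y = g.hom.app (op d) z}
  refine isSheafFor_of_contains (yoneda.obj Z) (fun k : κ => el.symm k.2.1) ?_ _ ?_
  · intro c z
    refine J.superset_covering ?_ (h c (g.hom.app (op c) z))
    rintro d k ⟨i, y, hy⟩
    refine ⟨⟨d, Y.obj.map k.op z, i, y, hy.trans (NatTrans.naturality_apply g.hom k.op z).symm⟩,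
      el (𝟙 (rep J d)), ?_⟩
    refine (el_comp (𝟙 (rep J d)) (el.symm (Y.obj.map k.op z))).symm.trans ?_
    rw [Category.id_comp, Equiv.apply_symm_apply]
  · rintro ⟨d, z, i, y, hy⟩
    change S (el.symm z ≫ g)
    rw [el_symm_comp, ← hy, ← el_symm_comp]
    exact S.downward_closed (hS i) _

omit [PreservesLimitsOfSize.{u, u} P] in
theorem exists_locSurj_of_mem_canonical {X : Sheaf J (Type u)} {S : Sieve X}
    (hS : S ∈ Sheaf.canonicalTopology (Sheaf J (Type u)) X) :
    ∃ (ι : Type u) (c : ι → C) (f : ∀ i, rep J (c i) ⟶ X), (∀ i, S (f i)) ∧ LocSurj f := by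
  refine ⟨Σ d : C, {x : X.obj.obj (op d) // S (el.symm x)}, fun k => k.1, fun k => el.symm k.2.1,
    fun k => k.2.2, locSurj_of_jointlyEpi _ fun Z a b hab => ?_⟩
  refine (Sheaf.isSheaf_yoneda_obj Z S hS).isSeparatedFor.ext fun W g hg => ?_
  change g ≫ a = g ≫ b
  refine ObjectProperty.hom_ext _ (NatTrans.ext (funext fun ⟨c⟩ => ?_))
  refine ConcreteCategory.hom_ext _ _ fun w => ?_
  have hm : S (el.symm (g.hom.app (op c) w)) := by
    rw [← el_symm_comp]
    exact S.downward_closed hg _
  have := congrArg el (hab ⟨c, _, hm⟩)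
  rw [el_comp, el_comp, Equiv.apply_symm_apply] at this
  exact this

/-- A functor turning small colimits into limits is a sheaf for the canonical topology. -/
theorem isSheaf_of_preservesLimits :
    Presieve.IsSheaf (Sheaf.canonicalTopology (Sheaf J (Type u))) P := by
  intro X S hS
  obtain ⟨ι, c, f, hf, h⟩ := exists_locSurj_of_mem_canonical hS
  exact isSheafFor_of_contains P f h S hf

end Groth.Agent.CanonTopos16
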