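import Groth.Agent.CanonTopos16.Basic
import Mathlib.CategoryTheory.Limits.Types.Colimits
import Mathlib.CategoryTheory.Limits.FunctorCategory.Basic
import Mathlib.CategoryTheory.Sites.Whiskering

/-!
Sheaves for the canonical topology of a topos turn small colimits into limits.
-/

universe w v u

set_option linter.style.haveILetI false

open CategoryTheory CategoryTheory.Limits Opposite

namespace Groth.Agent.CanonTopos16

variable {C : Type u} [SmallCategory C] {J : GrothendieckTopology C}

lemma mem_generate {ι : Type u} {X : Sheaf J (Type u)} {G : ι → Sheaf J (Type u)} (f : ∀ i, G i ⟶ X)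
    (h : LocSurj f) :
    Sieve.generate (Presieve.ofArrows G f) ∈ Sheaf.canonicalTopology (Sheaf J (Type u)) X :=
  mem_canonical_of_locSurj f h _ fun i => Sieve.le_generate _ _ _ (Presieve.ofArrows.mk i)

variable (P : (Sheaf J (Type u))ᵒᵖ ⥤ Type w)
  (hP : Presieve.IsSheaf (Sheaf.canonicalTopology (Sheaf J (Type u))) P)

include hP in
lemma separated_of_isSheaf {ι : Type u} {X : Sheaf J (Type u)} {G : ι → Sheaf J (Type u)}
    (f : ∀ i, G i ⟶ X) (h : LocSurj f) {s t : P.obj (op X)}
    (e : ∀ i, P.map (f i).op s = P.map (f i).op t) : s = t :=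
  ((Presieve.isSheafFor_iff_generate _).2 (hP _ (mem_generate f h))).isSeparatedFor.ext
    fun _ _ ⟨i⟩ => e i

include hP in
theorem preservesLimits_of_isSheaf : PreservesLimitsOfSize.{u, u} P := by
  refine ⟨fun {K} _ => ⟨fun {D} => ⟨fun {c} hc => ?_⟩⟩⟩
  rw [Types.isLimit_iff]
  intro s hs
  let G : Kᵒᵖ ⥤ Cᵒᵖ ⥤ Type u := D.leftOp ⋙ sheafToPresheaf J (Type u)
  let B : Sheaf J (Type u) := (presheafToSheaf J (Type u)).obj (colimit G)
  let f : ∀ k : K, (D.obj k).unop ⟶ c.pt.unop := fun k => (c.π.app k).unop
  let ι' : ∀ k : K, (D.obj k).unop ⟶ B := fun k => ⟨colimit.ι G (op k) ≫ toSheafify J (colimit G)⟩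
  let cB : Cone D :=
    { pt := op B
      π :=
        { app := fun k => (ι' k).op
          naturality := fun k l g => by
            apply Quiver.Hom.unop_inj
            refine ObjectProperty.hom_ext _ ?_
            simp only [Functor.const_obj_obj, Functor.const_obj_map, Category.id_comp,
              unop_comp, Quiver.Hom.unop_op, ObjectProperty.FullSubcategory.comp_hom]
            change colimit.ι G (op l) ≫ _ = (D.map g).unop.hom ≫ colimit.ι G (op k) ≫ _
            rw [← Category.assoc]
            exact congrArg (· ≫ toSheafify J (colimit G)) (colimit.w G g.op).symm } }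
  let ψ : c.pt.unop ⟶ B := (hc.lift cB).unop
  have hψ : ∀ k, f k ≫ ψ = ι' k := fun k => congrArg Quiver.Hom.unop (hc.fac cB k)
  have hf : LocSurj f := locSurj_of_jointlyEpi f fun Z a b hab =>
    Quiver.Hom.op_inj (hc.hom_ext fun k => congrArg Quiver.Hom.op (hab k))
  have hcompat : ∀ (k l : K) (W : Sheaf J (Type u)) (a : W ⟶ (D.obj k).unop)
      (b : W ⟶ (D.obj l).unop), a ≫ f k = b ≫ f l → P.map a.op (s k) = P.map b.op (s l) := by
    intro k l W a b hab
    let κ := Σ d : C, {z : W.obj.obj (op d) //
      Relation.EqvGen (G ⋙ (evaluation Cᵒᵖ (Type u)).obj (op d)).ColimitTypeRel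
        ⟨op k, a.hom.app (op d) z⟩ ⟨op l, b.hom.app (op d) z⟩}
    let e : ∀ p : κ, rep J p.1 ⟶ W := fun p => el.symm p.2.1
    have he : LocSurj e := by
      intro d₀ z₀
      have h1 : (toSheafify J (colimit G)).app (op d₀)
          ((colimit.ι G (op k)).app (op d₀) (a.hom.app (op d₀) z₀)) =
          (toSheafify J (colimit G)).app (op d₀)
          ((colimit.ι G (op l)).app (op d₀) (b.hom.app (op d₀) z₀)) := by
        have h2 : a ≫ ι' k = b ≫ ι' l := by
          rw [← hψ, ← hψ, ← Category.assoc, hab, Category.assoc]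
        exact ConcreteCategory.congr_hom (congrArg (fun t : W ⟶ B => t.hom.app (op d₀)) h2) z₀
      refine J.superset_covering ?_ (Presheaf.equalizerSieve_mem J (toSheafify J (colimit G)) _ _ h1)
      intro d g hg
      refine ⟨⟨d, W.obj.map g.op z₀, ?_⟩, el (𝟙 (rep J d)), ?_⟩
      · have h3 : (colimit.ι G (op k)).app (op d) (a.hom.app (op d) (W.obj.map g.op z₀)) =
            (colimit.ι G (op l)).app (op d) (b.hom.app (op d) (W.obj.map g.op z₀)) := by
          refine Eq.trans ?_ (hg.trans ?_)
          · rw [← NatTrans.naturality_apply (colimit.ι G (op k)) g.op]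
            exact congrArg _ (NatTrans.naturality_apply a.hom g.op z₀)
          · rw [← NatTrans.naturality_apply (colimit.ι G (op l)) g.op]
            exact congrArg _ (NatTrans.naturality_apply b.hom g.op z₀).symm
        let ev := (evaluation Cᵒᵖ (Type u)).obj (op d)
        let m := (isColimitOfPreserves ev (colimit.isColimit G)).coconePointUniqueUpToIso
          (colimit.isColimit (G ⋙ ev))
        have hm : ∀ (j : Kᵒᵖ) (y : (G.obj j).obj (op d)),
            m.hom ((colimit.ι G j).app (op d) y) = colimit.ι (G ⋙ ev) j y := fun j y =>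
          ConcreteCategory.congr_hom ((isColimitOfPreserves ev
            (colimit.isColimit G)).comp_coconePointUniqueUpToIso_hom (colimit.isColimit (G ⋙ ev)) j) y
        refine Types.colimit_eq ?_
        rw [← hm, ← hm, h3]
      · refine (el_comp (𝟙 (rep J d)) (el.symm (W.obj.map g.op z₀))).symm.trans ?_
        rw [Category.id_comp, Equiv.apply_symm_apply]
    refine separated_of_isSheaf P hP e he ?_
    rintro ⟨d, z, hz⟩
    let val : (Σ j : Kᵒᵖ, (G.obj j).obj (op d)) → P.obj (op (rep J d)) :=
      fun p => P.map ((el (F := (D.obj p.1.unop).unop)).symm p.2).op (s p.1.unop)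
    have inv : ∀ p q, Relation.EqvGen (G ⋙ (evaluation Cᵒᵖ (Type u)).obj (op d)).ColimitTypeRel p q →
        val p = val q := by
      intro p q h
      induction h with
      | rel x y hxy =>
        obtain ⟨g, hg⟩ := hxy
        have e₁ : (el (F := (D.obj y.1.unop).unop)).symm y.2 =
            (el (F := (D.obj x.1.unop).unop)).symm x.2 ≫ (D.map g.unop).unop := by
          rw [el_symm_comp]
          exact congrArg _ hg
        change P.map _ (s x.1.unop) = P.map _ (s y.1.unop)
        rw [e₁, op_comp, Functor.map_comp_apply]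
        exact congrArg (P.map _) (hs g.unop).symm
      | refl x => rfl
      | symm x y _ ih => exact ih.symm
      | trans x y z _ _ ih₁ ih₂ => exact ih₁.trans ih₂
    have hv : val ⟨op k, a.hom.app (op d) z⟩ = val ⟨op l, b.hom.app (op d) z⟩ := inv _ _ hz
    rw [← Functor.map_comp_apply, ← Functor.map_comp_apply, ← op_comp, ← op_comp]
    change P.map (el.symm z ≫ a).op (s k) = P.map (el.symm z ≫ b).op (s l)
    rw [el_symm_comp, el_symm_comp]
    exact hv
  obtain ⟨t, ht, huniq⟩ := (Presieve.isSheafFor_arrows_iff _ f).1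
    ((Presieve.isSheafFor_iff_generate _).2 (hP _ (mem_generate f hf))) s
      (fun k l W a b hab => hcompat k l W a b hab)
  exact ⟨t, ht, fun t' ht' => huniq t' ht'⟩

/-- For functors with values in an arbitrary category. -/
theorem isSheaf_canonical_iff {E' : Type v} [Category.{w} E'] (F : (Sheaf J (Type u))ᵒᵖ ⥤ E') :
    Presheaf.IsSheaf (Sheaf.canonicalTopology (Sheaf J (Type u))) F ↔
      PreservesLimitsOfSize.{u, u} F := by
  constructor
  · intro h
    refine ⟨fun {K} _ => ⟨fun {D} => ⟨fun {c} hc => ⟨coyonedaJointlyReflectsLimits _ _ fun e => ?_⟩⟩⟩⟩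
    haveI := preservesLimits_of_isSheaf (F ⋙ coyoneda.obj e) (h e.unop)
    exact isLimitOfPreserves (F ⋙ coyoneda.obj e) hc
  · intro h e
    haveI : PreservesLimitsOfSize.{u, u} (F ⋙ coyoneda.obj (op e)) := comp_preservesLimits _ _
    exact isSheaf_of_preservesLimits _

end Groth.Agent.CanonTopos16
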